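import Mathlib.CategoryTheory.Sites.PrecoverageToGrothendieck
import Mathlib.CategoryTheory.Sites.Coverage

/-!
# Topology generated by two precoverages in composite form
-/

set_option autoImplicit false
open CategoryTheory Opposite

universe w v₁ u₁

namespace CovGenLib

variable {C : Type u₁} [Category.{v₁} C] (C' : C → Prop) (P P' : Precoverage C)

theorem bind_mem [P.IsStableUnderComposition] {X : C} {R : Presieve X} (hR : R ∈ P X)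
    (T : ∀ ⦃Y : C⦄ ⦃f : Y ⟶ X⦄, R f → Presieve Y) (hT : ∀ ⦃Y : C⦄ ⦃f : Y ⟶ X⦄ (hf : R f), T hf ∈ P Y) :
    R.bind T ∈ P X := by
  let ι := { x : Σ Z, (Z ⟶ X) // R x.2 }
  have e₁ : R = Presieve.ofArrows (fun x : ι => x.1.1) (fun x => x.1.2) :=
    le_antisymm (fun Z g hg => .mk (⟨⟨_, _⟩, hg⟩ : ι)) fun Z g ⟨x⟩ => x.2
  let σ : ι → Type max u₁ v₁ := fun x => { y : Σ Z, (Z ⟶ x.1.1) // T x.2 y.2 }
  have e₂ : ∀ x : ι, T x.2 = Presieve.ofArrows (fun y : σ x => y.1.1) (fun y => y.1.2) := fun x =>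
    le_antisymm (fun Z g hg => .mk (⟨⟨_, _⟩, hg⟩ : σ x)) fun Z g ⟨y⟩ => y.2
  have h := Precoverage.comp_mem_coverings (J := P) (fun x : ι => x.1.2) (e₁ ▸ hR)
    (σ := σ) (fun x y => y.1.2) (fun x => e₂ x ▸ hT x.2)
  convert h using 1
  refine le_antisymm (fun Z q hq => ?_) fun Z q hq => ?_
  · obtain ⟨Y, g, f, hf, hg, rfl⟩ := hq
    exact .mk (⟨⟨⟨_, f⟩, hf⟩, ⟨⟨_, g⟩, hg⟩⟩ : Σ x, σ x)
  · obtain ⟨p⟩ := hq
    exact ⟨_, p.2.1.2, _, p.1.2, p.2.2, rfl⟩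

/-- Contains a composite family. -/
def Good (X : C) (S' : Sieve X) : Prop :=
  ∃ (R : Presieve X) (_ : R ∈ P X) (_ : ∀ ⦃Y : C⦄ ⦃f : Y ⟶ X⦄, R f → C' Y)
    (R' : ∀ ⦃Y : C⦄ ⦃f : Y ⟶ X⦄, R f → Presieve Y),
    (∀ ⦃Y : C⦄ ⦃f : Y ⟶ X⦄ (hf : R f), R' hf ∈ P' Y) ∧
    ∀ ⦃Y : C⦄ ⦃f : Y ⟶ X⦄ (hf : R f) ⦃Z : C⦄ ⦃g : Z ⟶ Y⦄, R' hf g → S' (g ≫ f)

structure Hyp : Prop where
  hP'C : ∀ ⦃X : C⦄ ⦃R : Presieve X⦄, R ∈ P' X → C' X ∧ ∀ ⦃Y : C⦄ ⦃f : Y ⟶ X⦄, R f → C' Y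
  hP'id : ∀ ⦃X : C⦄, C' X → Presieve.singleton (𝟙 X) ∈ P' X
  ha : ∀ ⦃X : C⦄ ⦃R : Presieve X⦄, R ∈ P' X → ∀ ⦃T : C⦄ (g : T ⟶ X), C' T →
    ∃ _ : R.HasPullbacks g, Presieve.pullbackArrows g R ∈ P' T
  hb : ∀ X : C, ∃ R ∈ P X, ∀ ⦃Y : C⦄ ⦃f : Y ⟶ X⦄, R f → C' Y
  hc : ∀ ⦃S : C⦄ ⦃R₁ : Presieve S⦄, R₁ ∈ P' S →
    ∀ (R₂ : ∀ ⦃Y : C⦄ ⦃f : Y ⟶ S⦄, R₁ f → Presieve Y),
      (∀ ⦃Y : C⦄ ⦃f : Y ⟶ S⦄ (hf : R₁ f), R₂ hf ∈ P Y ∧ ∀ ⦃Z : C⦄ ⦃g : Z ⟶ Y⦄, R₂ hf g → C' Z) →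
    ∀ (R₃ : ∀ ⦃Y : C⦄ ⦃f : Y ⟶ S⦄ (hf : R₁ f) ⦃Z : C⦄ ⦃g : Z ⟶ Y⦄, R₂ hf g → Presieve Z),
      (∀ ⦃Y : C⦄ ⦃f : Y ⟶ S⦄ (hf : R₁ f) ⦃Z : C⦄ ⦃g : Z ⟶ Y⦄ (hg : R₂ hf g), R₃ hf hg ∈ P' Z) →
    ∃ T ∈ P' S, ∀ ⦃W : C⦄ ⦃q : W ⟶ S⦄, T q →
      ∃ (Y Z V : C) (f : Y ⟶ S) (hf : R₁ f) (g : Z ⟶ Y) (hg : R₂ hf g) (h : V ⟶ Z) (_ : R₃ hf hg h)
        (r : W ⟶ V), r ≫ h ≫ g ≫ f = q

variable {C' P P'} [P.HasPullbacks] [P.IsStableUnderBaseChange] [P.IsStableUnderComposition]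

theorem good_top (H : Hyp C' P P') (X : C) : Good C' P P' X ⊤ := by
  obtain ⟨R, hR, hC⟩ := H.hb X
  exact ⟨R, hR, hC, fun Y f _ => Presieve.singleton (𝟙 Y), fun Y f hf => H.hP'id (hC hf), fun _ _ _ _ _ _ => trivial⟩

/-- A `P`-family on any object can be refined to one with sources in `C'`. -/
theorem refineP (H : Hyp C' P P') {X : C} {R : Presieve X} (hR : R ∈ P X) :
    ∃ R₀ ∈ P X, (∀ ⦃Y : C⦄ ⦃f : Y ⟶ X⦄, R₀ f → C' Y) ∧
      ∀ ⦃Y : C⦄ ⦃f : Y ⟶ X⦄, R₀ f → ∃ (Z : C) (a : Y ⟶ Z) (g : Z ⟶ X), R g ∧ a ≫ g = f := by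
  choose T hT hTC using H.hb
  refine ⟨R.bind (fun Y _ _ => T Y), bind_mem P hR _ (fun Y _ _ => hT Y), ?_, ?_⟩
  · rintro Y q ⟨Z, g, f, -, hg, rfl⟩
    exact hTC _ hg
  · rintro Y q ⟨Z, g, f, hf, -, rfl⟩
    exact ⟨Z, g, f, hf, rfl⟩

theorem good_pullback (H : Hyp C' P P') {X : C} {S' : Sieve X} (h : Good C' P P' X S') {T : C} (g : T ⟶ X) :
    Good C' P P' T (S'.pullback g) := by
  obtain ⟨R, hR, hC, R', hR', hS⟩ := h
  haveI := P.hasPullbacks_of_mem g hR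
  obtain ⟨R₀, hR₀, hC₀, hfac⟩ := refineP H (Precoverage.pullbackArrows_mem g hR)
  have key : ∀ ⦃Y : C⦄ ⦃q : Y ⟶ T⦄, R₀ q → ∃ T' ∈ P' Y, ∀ ⦃Z : C⦄ ⦃h : Z ⟶ Y⦄, T' h → S' ((h ≫ q) ≫ g) := by
    intro Y q hq
    obtain ⟨Z, a, p, hp, rfl⟩ := hfac hq
    obtain ⟨Z₀, f, hf⟩ := hp
    haveI := R.hasPullback g hf
    obtain ⟨hpb, hT'⟩ := H.ha (hR' hf) (a ≫ Limits.pullback.fst f g) (hC₀ hq)
    refine ⟨_, hT', fun W h hh => ?_⟩
    obtain ⟨V, r, hr⟩ := hh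
    haveI := hpb.hasPullback hr
    simp only [Category.assoc]
    rw [← Limits.pullback.condition, ← Category.assoc a, ← Category.assoc, ← Limits.pullback.condition, Category.assoc]
    exact S'.downward_closed (hS hf hr) _
  choose T' hT' hT'S using key
  exact ⟨R₀, hR₀, hC₀, T', hT', hT'S⟩

theorem good_transitive (H : Hyp C' P P') {X : C} {S U : Sieve X} (h : Good C' P P' X S)
    (hU : ∀ ⦃Y : C⦄ ⦃f : Y ⟶ X⦄, S f → Good C' P P' Y (U.pullback f)) : Good C' P P' X U := by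
  obtain ⟨R, hR, hC, R', hR', hS⟩ := h
  have key : ∀ ⦃Y : C⦄ ⦃f : Y ⟶ X⦄ (_ : R f), ∃ T ∈ P' Y, ∀ ⦃W : C⦄ ⦃q : W ⟶ Y⦄, T q → U (q ≫ f) := by
    intro Y f hf
    choose R₂ h₂ h₂C R₃ h₃ h₃U using fun {Z : C} {g : Z ⟶ Y} (hg : R' hf g) => hU (hS hf hg)
    obtain ⟨T, hT, hq⟩ := H.hc (hR' hf) (fun Z g hg => R₂ hg) (fun Z g hg => ⟨h₂ hg, h₂C hg⟩)
      (fun Z g hg V h hh => R₃ hg hh) (fun Z g hg V h hh => h₃ hg hh)
    refine ⟨T, hT, fun W q hTq => ?_⟩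
    obtain ⟨A, B, D, a, ha, b, hb, c, hc, r, rfl⟩ := hq hTq
    have := U.downward_closed (h₃U ha hb hc) r
    simpa [Sieve.pullback_apply] using this
  choose T hT hTU using key
  exact ⟨R, hR, hC, T, hT, hTU⟩

theorem good_iff (H : Hyp C' P P') (X : C) (S' : Sieve X) :
    S' ∈ (P ⊔ P').toGrothendieck X ↔ Good C' P P' X S' := by
  constructor
  · intro h
    induction h with
    | of Y R hR =>
      rcases hR with hR | hR
      · obtain ⟨R₀, hR₀, hC₀, hfac⟩ := refineP H hR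
        refine ⟨R₀, hR₀, hC₀, fun Z f _ => Presieve.singleton (𝟙 Z), fun Z f hf => H.hP'id (hC₀ hf), ?_⟩
        rintro Z f hf _ _ ⟨⟩
        obtain ⟨W, a, g, hg, rfl⟩ := hfac hf
        exact ⟨W, a, g, hg, by simp⟩
      · obtain ⟨R₁, hR₁, hC₁⟩ := H.hb Y
        have key : ∀ ⦃Z : C⦄ ⦃f : Z ⟶ Y⦄, R₁ f → ∃ T ∈ P' Z, ∀ ⦃W : C⦄ ⦃q : W ⟶ Z⦄, T q → Sieve.generate R (q ≫ f) := by
          intro Z f hf
          obtain ⟨hpb, hT⟩ := H.ha hR f (hC₁ hf)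
          refine ⟨_, hT, fun W q hq => ?_⟩
          obtain ⟨V, r, hr⟩ := hq
          haveI := hpb.hasPullback hr
          exact ⟨V, _, r, hr, Limits.pullback.condition⟩
        choose T hT hTS using key
        exact ⟨R₁, hR₁, hC₁, T, hT, hTS⟩
    | top Y => exact good_top H Y
    | pullback Y S _ Z f ih => exact good_pullback H ih f
    | transitive Y S R _ _ ih₁ ih₂ => exact good_transitive H ih₁ ih₂
  · rintro ⟨R, hR, -, R', hR', hS⟩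
    refine GrothendieckTopology.transitive _ (Precoverage.generate_mem_toGrothendieck (J := P ⊔ P') (R := R) (Or.inl hR)) S' ?_
    rintro Y q ⟨Z, a, f, hf, rfl⟩
    rw [Sieve.pullback_comp]
    refine GrothendieckTopology.pullback_stable _ a (GrothendieckTopology.superset_covering _ ?_
      (Precoverage.generate_mem_toGrothendieck (J := P ⊔ P') (R := R' hf) (Or.inr (hR' hf))))
    rintro W q ⟨V, b, g, hg, rfl⟩
    simpa [Sieve.pullback_apply] using S'.downward_closed (hS hf hg) b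

theorem isSheaf_iff (H : Hyp C' P P') (F : Cᵒᵖ ⥤ Type w) :
    Presieve.IsSheaf (P ⊔ P').toGrothendieck F ↔
      (∀ ⦃X : C⦄ ⦃R : Presieve X⦄, R ∈ P X → Presieve.IsSheafFor F R) ∧
      (∀ ⦃X : C⦄ ⦃R : Presieve X⦄, R ∈ P' X → Presieve.IsSheafFor F R) := by
  refine ⟨fun h => ⟨fun X R hR => ?_, fun X R hR => ?_⟩, fun ⟨hP, hP'⟩ => ?_⟩
  · exact (Presieve.isSheafFor_iff_generate _).mpr (h _ (Precoverage.generate_mem_toGrothendieck (J := P ⊔ P') (R := R) (Or.inl hR)))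
  · exact (Presieve.isSheafFor_iff_generate _).mpr (h _ (Precoverage.generate_mem_toGrothendieck (J := P ⊔ P') (R := R) (Or.inr hR)))
  -- two elements agreeing on a covering sieve are equal
  have sep : ∀ {W : C} {S : Sieve W}, Good C' P P' W S → ∀ (t t' : F.obj (op W)),
      (∀ ⦃V : C⦄ ⦃q : V ⟶ W⦄, S q → F.map q.op t = F.map q.op t') → t = t' := by
    rintro W S ⟨R, hR, -, R', hR', hS⟩ t t' htt
    refine (hP hR).isSeparatedFor.ext fun Y f hf => ?_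
    refine (hP' (hR' hf)).isSeparatedFor.ext fun Z g hg => ?_
    simpa [← Functor.map_comp_apply, ← op_comp] using htt (hS hf hg)
  intro X S hS x hx
  have hGS := (good_iff H X S).mp hS
  obtain ⟨R, hR, hC, R', hR', hSub⟩ := hGS
  -- glue on the members of the outer family
  have hfam : ∀ ⦃Y : C⦄ ⦃f : Y ⟶ X⦄ (hf : R f), ∃ t : F.obj (op Y),
      ∀ ⦃V : C⦄ (d : V ⟶ Y) (hd : S (d ≫ f)), F.map d.op t = x (d ≫ f) hd := by
    intro Y f hf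
    let y : Presieve.FamilyOfElements F (R' hf) := fun Z g hg => x (g ≫ f) (hSub hf hg)
    have hy : y.Compatible := fun Y₁ Y₂ Z g₁ g₂ f₁ f₂ h₁ h₂ e => hx g₁ g₂ _ _ (by simp [reassoc_of% e])
    obtain ⟨t, ht, -⟩ := hP' (hR' hf) y hy
    refine ⟨t, fun V d hd => ?_⟩
    have hG : Good C' P P' V ((Sieve.generate (R' hf)).pullback d) :=
      (good_iff H V _).mp (GrothendieckTopology.pullback_stable _ d
        (Precoverage.generate_mem_toGrothendieck (J := P ⊔ P') (R := R' hf) (Or.inr (hR' hf))))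
    refine sep hG _ _ fun W e ⟨Z, a, g, hg, he⟩ => ?_
    rw [← Functor.map_comp_apply, ← op_comp, ← he, op_comp, Functor.map_comp_apply, ht g hg]
    exact hx a e (hSub hf hg) hd (by rw [← Category.assoc, he, Category.assoc])
  choose t ht using hfam
  let z : Presieve.FamilyOfElements F R := fun Y f hf => t hf
  have hz : z.Compatible := fun Y₁ Y₂ W a b f₁ f₂ h₁ h₂ e => by
    refine sep ((good_iff H W _).mp (GrothendieckTopology.pullback_stable _ (a ≫ f₁) hS)) _ _ fun V c hc => ?_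
    rw [← Functor.map_comp_apply, ← Functor.map_comp_apply, ← op_comp, ← op_comp]
    have h1 : S ((c ≫ a) ≫ f₁) := by simpa [Category.assoc] using hc
    have h2 : S ((c ≫ b) ≫ f₂) := by rw [Category.assoc, ← e, ← Category.assoc]; exact h1
    rw [ht h₁ _ h1, ht h₂ _ h2]
    congr 1
    rw [Category.assoc, Category.assoc, e]
  obtain ⟨s, hs, -⟩ := hP hR z hz
  have hamal : x.IsAmalgamation s := fun Y q hq => by
    refine sep ((good_iff H Y _).mp (GrothendieckTopology.pullback_stable _ q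
      ((good_iff H X (Sieve.generate R)).mpr ((good_iff H X _).mp
        (Precoverage.generate_mem_toGrothendieck (J := P ⊔ P') (R := R) (Or.inl hR)))))) _ _ ?_
    rintro V c ⟨Z, a, f, hf, he⟩
    rw [← Functor.map_comp_apply, ← op_comp, ← he, op_comp, Functor.map_comp_apply, hs f hf]
    have h1 : S (a ≫ f) := by rw [he]; exact S.downward_closed hq c
    refine (ht hf a h1).trans ?_
    exact (congrArg id rfl).trans (((by simp) : x (a ≫ f) h1 = F.map (𝟙 V).op (x (a ≫ f) h1)).trans (hx (𝟙 V) c h1 hq (by rw [Category.id_comp, he])))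
  refine ⟨s, hamal, fun s' hs' => ?_⟩
  exact sep ((good_iff H X S).mp hS) _ _ fun V q hq => (hs' q hq).trans (hamal q hq).symm

end CovGenLib
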